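import Mathlib

/-!
# Quasi-compactness of the Zariski–Riemann space (patch topology), in "finite subcover" form
-/

set_option autoImplicit false

namespace Groth.Agent.Lib.Helper28.ZR

open Set

variable {K : Type*} [Field K]

/-- The set of indicator functions of valuation subrings of `K` containing `A₀`. -/
def valSet (A₀ : Set K) : Set (K → Bool) :=
  {s | s 0 = true ∧ s 1 = true ∧ (∀ a b, s a = true → s b = true → s (a + b) = true) ∧
    (∀ a, s a = true → s (-a) = true) ∧
    (∀ a b, s a = true → s b = true → s (a * b) = true) ∧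
    (∀ a, s a = true ∨ s a⁻¹ = true) ∧ (∀ a ∈ A₀, s a = true)}

lemma isClosed_eval_true (a : K) : IsClosed {s : K → Bool | s a = true} := by
  have h : Continuous (fun s : K → Bool => s a) := continuous_apply a
  exact IsClosed.preimage h (isClosed_discrete ({true} : Set Bool))

lemma isOpen_eval_true (a : K) : IsOpen {s : K → Bool | s a = true} := by
  have h : Continuous (fun s : K → Bool => s a) := continuous_apply a
  exact IsOpen.preimage h (isOpen_discrete ({true} : Set Bool))

omit [Field K] in
lemma isClosed_imp {p q : (K → Bool) → Prop} (hp : IsOpen {s | p s}) (hq : IsClosed {s | q s}) :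
    IsClosed {s | p s → q s} := by
  have : {s | p s → q s} = {s | p s}ᶜ ∪ {s | q s} := by
    ext s; simp [imp_iff_not_or]
  rw [this]
  exact hp.isClosed_compl.union hq

lemma isClosed_valSet (A₀ : Set K) : IsClosed (valSet A₀) := by
  have : valSet A₀ = {s | s 0 = true} ∩ {s | s 1 = true} ∩
      (⋂ a, ⋂ b, {s | s a = true → s b = true → s (a + b) = true}) ∩
      (⋂ a, {s | s a = true → s (-a) = true}) ∩
      (⋂ a, ⋂ b, {s | s a = true → s b = true → s (a * b) = true}) ∩
      (⋂ a, {s | s a = true ∨ s a⁻¹ = true}) ∩ (⋂ a ∈ A₀, {s | s a = true}) := by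
    ext s
    simp only [valSet, mem_setOf_eq, mem_inter_iff, mem_iInter]
    tauto
  rw [this]
  refine ((((((isClosed_eval_true 0).inter (isClosed_eval_true 1)).inter ?_).inter ?_).inter
    ?_).inter ?_).inter ?_
  · exact isClosed_iInter fun a => isClosed_iInter fun b =>
      isClosed_imp (isOpen_eval_true a) (isClosed_imp (isOpen_eval_true b) (isClosed_eval_true _))
  · exact isClosed_iInter fun a => isClosed_imp (isOpen_eval_true a) (isClosed_eval_true _)
  · exact isClosed_iInter fun a => isClosed_iInter fun b =>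
      isClosed_imp (isOpen_eval_true a) (isClosed_imp (isOpen_eval_true b) (isClosed_eval_true _))
  · exact isClosed_iInter fun a => (isClosed_eval_true a).union (isClosed_eval_true _)
  · exact isClosed_iInter fun a => isClosed_iInter fun _ => isClosed_eval_true a

/-- The valuation subring attached to an element of `valSet`. -/
def toValuationSubring {A₀ : Set K} (s : K → Bool) (hs : s ∈ valSet A₀) : ValuationSubring K where
  carrier := {x | s x = true}
  mul_mem' := fun {a b} ha hb => hs.2.2.2.2.1 a b ha hb
  one_mem' := hs.2.1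
  add_mem' := fun {a b} ha hb => hs.2.2.1 a b ha hb
  zero_mem' := hs.1
  neg_mem' := fun {a} ha => hs.2.2.2.1 a ha
  mem_or_inv_mem' := hs.2.2.2.2.2.1

lemma mem_toValuationSubring {A₀ : Set K} (s : K → Bool) (hs : s ∈ valSet A₀) (x : K) :
    x ∈ toValuationSubring s hs ↔ s x = true := Iff.rfl

/-- **Quasi-compactness of the Zariski–Riemann space.**  If every valuation subring of `K`
containing `A₀` contains one of the finite sets `F i`, then finitely many of the `F i` suffice. -/
theorem exists_finite_subcover (A₀ : Set K) {ι : Type*} (F : ι → Finset K)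
    (h : ∀ V : ValuationSubring K, A₀ ⊆ V → ∃ i, (F i : Set K) ⊆ V) :
    ∃ T : Finset ι, ∀ V : ValuationSubring K, A₀ ⊆ V → ∃ i ∈ T, (F i : Set K) ⊆ V := by
  classical
  have hcomp : IsCompact (valSet A₀) := (isClosed_valSet A₀).isCompact
  let O : ι → Set (K → Bool) := fun i => ⋂ x ∈ F i, {s | s x = true}
  have hO : ∀ i, IsOpen (O i) := fun i =>
    isOpen_biInter_finset fun x _ => isOpen_eval_true x
  have hcov : valSet A₀ ⊆ ⋃ i, O i := by
    intro s hs
    obtain ⟨i, hi⟩ := h (toValuationSubring s hs) (fun a ha => hs.2.2.2.2.2.2 a ha)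
    refine mem_iUnion.mpr ⟨i, ?_⟩
    simp only [O, mem_iInter]
    intro x hx
    exact hi hx
  obtain ⟨T, hT⟩ := hcomp.elim_finite_subcover O hO hcov
  refine ⟨T, fun V hV => ?_⟩
  let s : K → Bool := fun x => decide (x ∈ V)
  have hs : s ∈ valSet A₀ := by
    simp only [valSet, mem_setOf_eq, s, decide_eq_true_eq]
    refine ⟨V.zero_mem, V.one_mem, fun a b => V.add_mem a b, fun a => V.neg_mem a,
      fun a b => V.mul_mem a b, fun a => V.mem_or_inv_mem a, fun a ha => hV ha⟩
  obtain ⟨i, hiT, hi⟩ := mem_iUnion₂.mp (hT hs)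
  refine ⟨i, hiT, fun x hx => ?_⟩
  simp only [O, mem_iInter] at hi
  have := hi x hx
  simpa [s] using this

end Groth.Agent.Lib.Helper28.ZR
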