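import Mathlib
import Groth.Agent.Lib.Helper28.ZR.Compact

/-!
# Valuative criterion + finitely many irreducible components ⇒ quasi-compact
-/

set_option autoImplicit false
universe u

namespace Groth.Agent.Lib.Helper28.ZR

open CategoryTheory AlgebraicGeometry IsLocalRing

variable {X Y : Scheme.{u}}

/-- A morphism from the spectrum of a local ring whose closed point lands in an open `U`
has range in `U`. -/
lemma range_subset_of_closedPoint_mem {R : CommRingCat.{u}} [IsLocalRing R] (g : Spec R ⟶ X)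
    (U : X.Opens) (h : g (closedPoint R) ∈ U) : Set.range g ⊆ U := by
  rintro _ ⟨p, rfl⟩
  have hp : p ⤳ closedPoint R := specializes_closedPoint p
  exact (hp.map g.continuous).mem_open U.isOpen h

lemma exists_SpecMap_fromSpec {R : CommRingCat.{u}} (g : Spec R ⟶ X) {U : X.Opens}
    (hU : IsAffineOpen U) (h : Set.range g ⊆ U) :
    ∃ ψ : Γ(X, U) ⟶ R, Spec.map ψ ≫ hU.fromSpec = g := by
  have h' : Set.range g ⊆ Set.range hU.fromSpec := by rwa [hU.range_fromSpec]
  refine ⟨Spec.preimage (IsOpenImmersion.lift hU.fromSpec g h'), ?_⟩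
  rw [Spec.map_preimage, IsOpenImmersion.lift_fac]

lemma SpecMap_fromSpec_injective {R : CommRingCat.{u}} {U : X.Opens} (hU : IsAffineOpen U)
    {ψ ψ' : Γ(X, U) ⟶ R} (h : Spec.map ψ ≫ hU.fromSpec = Spec.map ψ' ≫ hU.fromSpec) : ψ = ψ' :=
  Spec.map_injective ((cancel_mono hU.fromSpec).mp h)

/-- Data attached to an affine open `W ∋ η` lying over the affine open `U`. -/
lemma exists_chart_data (f : X ⟶ Y) [LocallyOfFiniteType f] (η : X) {U : Y.Opens}
    (hU : IsAffineOpen U) (φ : Γ(Y, U) ⟶ X.residueField η)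
    (hφ : Spec.map φ ≫ hU.fromSpec = X.fromSpecResidueField η ≫ f)
    {W : X.Opens} (hW : IsAffineOpen W) (e : W ≤ f ⁻¹ᵁ U) (hηW : η ∈ W) :
    ∃ (β : Γ(X, W) ⟶ X.residueField η) (s : Finset Γ(X, W)),
      Spec.map β ≫ hW.fromSpec = X.fromSpecResidueField η ∧
      f.appLE U W e ≫ β = φ ∧
      ∀ V : ValuationSubring (X.residueField η), (∀ a, φ a ∈ V) → (∀ b ∈ s, β b ∈ V) →
        ∀ b, β b ∈ V := by
  have hr : Set.range (X.fromSpecResidueField η) ⊆ W := by
    rw [Scheme.range_fromSpecResidueField]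
    simpa using hηW
  obtain ⟨β, hβ⟩ := exists_SpecMap_fromSpec (X.fromSpecResidueField η) hW hr
  have hβφ : f.appLE U W e ≫ β = φ := by
    apply SpecMap_fromSpec_injective hU
    rw [Spec.map_comp, Category.assoc, IsAffineOpen.SpecMap_appLE_fromSpec f hU hW e,
      reassoc_of% hβ, hφ]
  have hft : (f.appLE U W e).hom.FiniteType :=
    HasRingHomProperty.appLE @LocallyOfFiniteType f inferInstance ⟨U, hU⟩ ⟨W, hW⟩ e
  letI := (f.appLE U W e).hom.toAlgebra
  obtain ⟨s, hs⟩ := hft.out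
  refine ⟨β, s, hβ, hβφ, fun V hV hsV b => ?_⟩
  let S : Subalgebra Γ(Y, U) Γ(X, W) :=
    { carrier := {b | β b ∈ V}
      mul_mem' := fun {a b} ha hb => by
        show β (a * b) ∈ V
        rw [map_mul]; exact V.mul_mem _ _ ha hb
      one_mem' := by
        show β 1 ∈ V
        rw [map_one]; exact V.one_mem
      add_mem' := fun {a b} ha hb => by
        show β (a + b) ∈ V
        rw [map_add]; exact V.add_mem _ _ ha hb
      zero_mem' := by
        show β 0 ∈ V
        rw [map_zero]; exact V.zero_mem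
      algebraMap_mem' := fun a => by
        show β ((f.appLE U W e) a) ∈ V
        have : β ((f.appLE U W e) a) = φ a := by
          rw [← hβφ]; rfl
        rw [this]; exact hV a }
  have hle : Algebra.adjoin Γ(Y, U) (s : Set Γ(X, W)) ≤ S :=
    Algebra.adjoin_le fun b hb => hsV b hb
  rw [hs] at hle
  exact hle (Algebra.mem_top : b ∈ ⊤)

/-- The valuative square attached to a valuation subring `V ⊇ φ(Γ(Y,U))`. -/
lemma comm_sq_aux (f : X ⟶ Y) (η : X) {U : Y.Opens}
    (hU : IsAffineOpen U) (φ : Γ(Y, U) ⟶ X.residueField η)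
    (hφ : Spec.map φ ≫ hU.fromSpec = X.fromSpecResidueField η ≫ f)
    (V : ValuationSubring (X.residueField η)) (hV : ∀ a, φ a ∈ V) :
    X.fromSpecResidueField η ≫ f =
      Spec.map (CommRingCat.ofHom (algebraMap V (X.residueField η))) ≫
        Spec.map (CommRingCat.ofHom (φ.hom.codRestrict V.toSubring hV)) ≫ hU.fromSpec := by
  rw [← hφ, ← Spec.map_comp_assoc]
  rfl

theorem exists_finite_affine_cover (f : X ⟶ Y) [LocallyOfFiniteType f]
    (hf : ValuativeCriterion f) (η : X) {U : Y.Opens} (hU : IsAffineOpen U) (hη : f η ∈ U) :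
    ∃ T : Finset {W : X.Opens // IsAffineOpen W ∧ W ≤ f ⁻¹ᵁ U ∧ η ∈ W},
      closure {η} ∩ (f ⁻¹ᵁ U : Set X) ⊆ ⋃ W ∈ T, (W.1 : Set X) := by
  classical
  have hr : Set.range (X.fromSpecResidueField η ≫ f) ⊆ U := by
    rintro _ ⟨p, rfl⟩
    simpa using hη
  obtain ⟨φ, hφ⟩ := exists_SpecMap_fromSpec (X.fromSpecResidueField η ≫ f) hU hr
  choose β s hβ hβφ hβs using fun W : {W : X.Opens // IsAffineOpen W ∧ W ≤ f ⁻¹ᵁ U ∧ η ∈ W} =>
    exists_chart_data f η hU φ hφ W.2.1 W.2.2.1 W.2.2.2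
  let F : {W : X.Opens // IsAffineOpen W ∧ W ≤ f ⁻¹ᵁ U ∧ η ∈ W} → Finset (X.residueField η) :=
    fun W => (s W).image (β W).hom
  -- (i) every valuation ring over `φ` contains some `F W`
  have hcov : ∀ V : ValuationSubring (X.residueField η), Set.range φ.hom ⊆ V →
      ∃ W, (F W : Set (X.residueField η)) ⊆ V := by
    intro V hV0
    have hV : ∀ a, φ a ∈ V := fun a => hV0 ⟨a, rfl⟩
    have w := comm_sq_aux f η hU φ hφ V hV
    obtain ⟨l, hl₁, hl₂⟩ := (hf.existence
      { R := V, K := X.residueField η, commSq := ⟨w⟩, .. }).exists_lift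
    dsimp only at hl₁ hl₂
    have hfx : f (l (closedPoint V)) ∈ U := by
      rw [← Scheme.Hom.comp_apply, hl₂]
      rw [Scheme.Hom.comp_apply]
      have h0 : ∀ z, hU.fromSpec z ∈ U := fun z => by
        have : hU.fromSpec z ∈ Set.range hU.fromSpec := Set.mem_range_self _
        rwa [hU.range_fromSpec] at this
      exact h0 _
    obtain ⟨W, hW, hxW, hWU⟩ := TopologicalSpace.Opens.isBasis_iff_nbhd.mp X.isBasis_affineOpens
      (show l (closedPoint V) ∈ f ⁻¹ᵁ U from hfx)
    have hrl : Set.range l ⊆ W := range_subset_of_closedPoint_mem (R := .of V) l W hxW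
    have hηW : η ∈ W := by
      have h1 : X.fromSpecResidueField η (closedPoint (X.residueField η)) = η :=
        Scheme.fromSpecResidueField_apply η _
      rw [← h1, ← hl₁, Scheme.Hom.comp_apply]
      exact hrl (Set.mem_range_self _)
    obtain ⟨γ, hγ⟩ := exists_SpecMap_fromSpec (R := .of V) l hW hrl
    refine ⟨⟨W, hW, hWU, hηW⟩, ?_⟩
    have hγβ : γ ≫ CommRingCat.ofHom (algebraMap V (X.residueField η)) =
        β ⟨W, hW, hWU, hηW⟩ := by
      apply SpecMap_fromSpec_injective hW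
      rw [Spec.map_comp, Category.assoc, hγ, hl₁, hβ]
    intro y hy
    simp only [F, Finset.coe_image, Set.mem_image] at hy
    obtain ⟨b, -, rfl⟩ := hy
    rw [← hγβ]
    exact (γ b).2
  obtain ⟨T, hT⟩ := exists_finite_subcover (Set.range φ.hom) F hcov
  refine ⟨T, ?_⟩
  rintro x ⟨hx₁, hx₂⟩
  have hsp : η ⤳ x := specializes_iff_mem_closure.mpr hx₁
  -- a valuation ring dominating `𝒪_{X,x}` in `κ(η)`
  let ρ : X.presheaf.stalk x ⟶ X.residueField η := X.presheaf.stalkSpecializes hsp ≫ X.residue η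
  obtain ⟨V, hVρ, hloc⟩ := exists_factor_valuationRing ρ.hom
  let ρV : X.presheaf.stalk x ⟶ .of V := CommRingCat.ofHom (ρ.hom.codRestrict _ hVρ)
  let l' : Spec (.of V) ⟶ X := Spec.map ρV ≫ X.fromSpecStalk x
  have hl'₁ : Spec.map (CommRingCat.ofHom (algebraMap V (X.residueField η))) ≫ l' =
      X.fromSpecResidueField η := by
    have h1 : ρV ≫ CommRingCat.ofHom (algebraMap V (X.residueField η)) = ρ := rfl
    rw [← Spec.map_comp_assoc, h1, Spec.map_comp, Category.assoc,
      Scheme.SpecMap_stalkSpecializes_fromSpecStalk hsp]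
    rfl
  have hl'c : l' (closedPoint V) = x := by
    have h1 : (Spec.map ρV) (closedPoint V) = closedPoint (X.presheaf.stalk x) :=
      comap_closedPoint (S := V) (ρ.hom.codRestrict V.toSubring hVρ)
    rw [Scheme.Hom.comp_apply, h1, Scheme.fromSpecStalk_closedPoint]
  have hrl' : Set.range (l' ≫ f) ⊆ U := by
    apply range_subset_of_closedPoint_mem (R := .of V) (l' ≫ f) U
    rw [Scheme.Hom.comp_apply, hl'c]
    exact hx₂
  obtain ⟨ψ, hψ⟩ := exists_SpecMap_fromSpec (R := .of V) (l' ≫ f) hU hrl'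
  have hψφ : ψ ≫ CommRingCat.ofHom (algebraMap V (X.residueField η)) = φ := by
    apply SpecMap_fromSpec_injective hU
    rw [Spec.map_comp, Category.assoc, hψ, reassoc_of% hl'₁, hφ]
  have hVφ : ∀ a, φ a ∈ V := by
    intro a
    rw [← hψφ]
    exact (ψ a).2
  obtain ⟨W, hWT, hFW⟩ := hT V (by rintro _ ⟨a, rfl⟩; exact hVφ a)
  have hall : ∀ b, β W b ∈ V := hβs W V hVφ fun b hb => hFW (by
    simp only [F, Finset.coe_image]
    exact Set.mem_image_of_mem _ hb)
  let γ : Γ(X, W.1) ⟶ .of V := CommRingCat.ofHom ((β W).hom.codRestrict V.toSubring hall)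
  let l'' : Spec (.of V) ⟶ X := Spec.map γ ≫ W.2.1.fromSpec
  have w := comm_sq_aux f η hU φ hφ V hVφ
  have hl''₁ : Spec.map (CommRingCat.ofHom (algebraMap V (X.residueField η))) ≫ l'' =
      X.fromSpecResidueField η := by
    have h1 : γ ≫ CommRingCat.ofHom (algebraMap V (X.residueField η)) = β W := rfl
    rw [← Spec.map_comp_assoc, h1, hβ]
  have hψeq : ψ = CommRingCat.ofHom (φ.hom.codRestrict V.toSubring hVφ) := by
    ext a
    have := congrArg (fun k : Γ(Y, U) ⟶ X.residueField η => k a) hψφ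
    exact this
  have hl'₂ : l' ≫ f =
      Spec.map (CommRingCat.ofHom (φ.hom.codRestrict V.toSubring hVφ)) ≫ hU.fromSpec := by
    rw [← hψ, hψeq]
  have hγeq : f.appLE U W.1 W.2.2.1 ≫ γ =
      CommRingCat.ofHom (φ.hom.codRestrict V.toSubring hVφ) := by
    ext a
    have := congrArg (fun k : Γ(Y, U) ⟶ X.residueField η => k a) (hβφ W)
    exact this
  have hl''₂ : l'' ≫ f =
      Spec.map (CommRingCat.ofHom (φ.hom.codRestrict V.toSubring hVφ)) ≫ hU.fromSpec := by
    rw [← hγeq, Spec.map_comp, Category.assoc, Category.assoc,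
      IsAffineOpen.SpecMap_appLE_fromSpec f hU W.2.1 W.2.2.1]
  have huniq := (hf.uniqueness
    { R := V, K := X.residueField η, commSq := ⟨w⟩, .. }).elim ⟨l', hl'₁, hl'₂⟩ ⟨l'', hl''₁, hl''₂⟩
  have hll : l' = l'' := congrArg CommSq.LiftStruct.l huniq
  refine Set.mem_iUnion₂.mpr ⟨W, hWT, ?_⟩
  rw [← hl'c, hll, Scheme.Hom.comp_apply]
  have h0 : ∀ z, W.2.1.fromSpec z ∈ W.1 := fun z => by
    have : W.2.1.fromSpec z ∈ Set.range W.2.1.fromSpec := Set.mem_range_self _
    rwa [W.2.1.range_fromSpec] at this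
  exact h0 _

theorem quasiCompact_of_valuativeCriterion (f : X ⟶ Y) [LocallyOfFiniteType f]
    (hf : ValuativeCriterion f) (hX : (irreducibleComponents X).Finite) : QuasiCompact f := by
  classical
  rw [quasiCompact_iff_forall_isAffineOpen]
  intro U hU
  have key : ∀ Z ∈ irreducibleComponents X, ∃ T : Set X.Opens, T.Finite ∧
      (∀ W ∈ T, IsAffineOpen W ∧ W ≤ f ⁻¹ᵁ U) ∧ Z ∩ (f ⁻¹ᵁ U : Set X) ⊆ ⋃ W ∈ T, (W : Set X) := by
    intro Z hZ
    obtain ⟨η, hη⟩ := QuasiSober.sober (S := Z) hZ.1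
      (isClosed_of_mem_irreducibleComponents Z hZ)
    by_cases hηU : f η ∈ U
    · obtain ⟨T, hT⟩ := exists_finite_affine_cover f hf η hU hηU
      refine ⟨(fun W : {W : X.Opens // IsAffineOpen W ∧ W ≤ f ⁻¹ᵁ U ∧ η ∈ W} => W.1) ''
        (T : Set _), (Finset.finite_toSet T).image _, ?_, ?_⟩
      · rintro _ ⟨W, -, rfl⟩
        exact ⟨W.2.1, W.2.2.1⟩
      · rw [← hη.def]
        refine hT.trans ?_
        intro x hx
        obtain ⟨W, hWT, hxW⟩ := Set.mem_iUnion₂.mp hx
        exact Set.mem_iUnion₂.mpr ⟨W.1, ⟨W, hWT, rfl⟩, hxW⟩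
    · refine ⟨∅, Set.finite_empty, by simp, ?_⟩
      rintro x ⟨hxZ, hxU⟩
      exfalso
      apply hηU
      have hsp : η ⤳ x := by
        rw [specializes_iff_mem_closure, hη.def]
        exact hxZ
      exact (hsp.map f.continuous).mem_open U.isOpen hxU
  choose T hTfin hTaff hTcov using key
  have heq : (f ⁻¹ᵁ U : Set X) =
      ⋃ Z ∈ irreducibleComponents X, ⋃ hZ : Z ∈ irreducibleComponents X,
        ⋃ W ∈ T Z hZ, (W : Set X) := by
    apply Set.Subset.antisymm
    · intro x hx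
      have hZ := irreducibleComponent_mem_irreducibleComponents x
      have := hTcov _ hZ ⟨mem_irreducibleComponent, hx⟩
      exact Set.mem_iUnion₂.mpr ⟨_, hZ, Set.mem_iUnion.mpr ⟨hZ, this⟩⟩
    · intro x hx
      obtain ⟨Z, hZ, hx⟩ := Set.mem_iUnion₂.mp hx
      obtain ⟨hZ', hx⟩ := Set.mem_iUnion.mp hx
      obtain ⟨W, hW, hxW⟩ := Set.mem_iUnion₂.mp hx
      exact (hTaff Z hZ' W hW).2 hxW
  rw [heq]
  refine hX.isCompact_biUnion fun Z hZ => ?_
  refine isCompact_iUnion fun hZ' => ?_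
  exact (hTfin Z hZ').isCompact_biUnion fun W hW => (hTaff Z hZ' W hW).1.isCompact

end Groth.Agent.Lib.Helper28.ZR
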